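import Cfsg.Agent.Lib.Classical.SL
import Mathlib.LinearAlgebra.Matrix.ProjectiveSpecialLinearGroup
import Mathlib.LinearAlgebra.Matrix.Notation
import Mathlib.Tactic.FieldSimp

/-!
Centralisers in `PSL(2, q)` have order at least `(q - 2) / 2`.
-/

set_option autoImplicit false
set_option linter.style.haveILetI false

open Matrix

namespace Cfsg.Agent.SmallCent

universe v

variable {F : Type v} [Field F] [Fintype F]

theorem sl_centralizer_large [DecidableEq F] (h2 : (2 : F) ≠ 0) (A : SpecialLinearGroup (Fin 2) F)
    (hA : ∀ c : F, A.1 ≠ c • (1 : Matrix (Fin 2) (Fin 2) F)) :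
    Fintype.card F ≤ Nat.card (Subgroup.centralizer ({A} : Set (SpecialLinearGroup (Fin 2) F))) + 2 := by
  classical
  set t : F := A.1 0 0 + A.1 1 1 with ht
  set T := Finset.univ.filter fun s : F => s * s + t * s + 1 = 0 with hT
  have hTc : T.card ≤ 2 := by
    by_contra h
    obtain ⟨a, b, c, ha, hb, hc, hab, hac, hbc⟩ := Finset.two_lt_card_iff.1 (not_le.1 h)
    simp only [hT, Finset.mem_filter, Finset.mem_univ, true_and] at ha hb hc
    have e1 : (a - b) * (a + b + t) = 0 := by linear_combination ha - hb
    have e2 : (a - c) * (a + c + t) = 0 := by linear_combination ha - hc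
    have e1' := (mul_eq_zero.1 e1).resolve_left (sub_ne_zero.2 hab)
    have e2' := (mul_eq_zero.1 e2).resolve_left (sub_ne_zero.2 hac)
    exact hbc (by linear_combination e1' - e2')
  have hdetA : A.1 0 0 * A.1 1 1 - A.1 0 1 * A.1 1 0 = 1 := by rw [← Matrix.det_fin_two]; exact A.2
  let X : F → F := fun s => (s * s - 1) / (s * s + t * s + 1)
  let Y : F → F := fun s => s * (X s - 1)
  have hconic : ∀ s, s ∉ T → X s * X s + t * X s * Y s + Y s * Y s = 1 := by
    intro s hs
    have hD : s * s + t * s + 1 ≠ 0 := fun h => hs (Finset.mem_filter.2 ⟨Finset.mem_univ _, h⟩)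
    have hx : X s * (s * s + t * s + 1) = s * s - 1 := div_mul_cancel₀ _ hD
    simp only [Y]
    linear_combination (X s - 1) * hx
  let m : F → Matrix (Fin 2) (Fin 2) F := fun s => X s • (1 : Matrix (Fin 2) (Fin 2) F) + Y s • A.1
  have hdet : ∀ s, s ∉ T → (m s).det = 1 := by
    intro s hs
    simp [m, Matrix.det_fin_two]
    linear_combination hconic s hs + (Y s * Y s) * hdetA + (X s * Y s) * ht.symm
  have hinj : ∀ s s', s ∉ T → s' ∉ T → m s = m s' → s = s' := by
    intro s s' hs hs' h
    have hY : Y s = Y s' := by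
      by_contra hY
      refine hA ((X s' - X s) / (Y s - Y s')) ?_
      have hd : Y s - Y s' ≠ 0 := sub_ne_zero.2 hY
      ext i j
      have hij := congrFun (congrFun h i) j
      simp [m] at hij
      rw [Matrix.smul_apply, smul_eq_mul, div_mul_eq_mul_div, eq_div_iff hd]
      linear_combination hij
    have hX : X s = X s' := by
      have hij := congrFun (congrFun h 0) 0
      simp [m] at hij
      rw [hY] at hij
      linear_combination hij
    by_cases h1 : X s = 1
    · have hD : s * s + t * s + 1 ≠ 0 := fun h => hs (Finset.mem_filter.2 ⟨Finset.mem_univ _, h⟩)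
      have hD' : s' * s' + t * s' + 1 ≠ 0 := fun h => hs' (Finset.mem_filter.2 ⟨Finset.mem_univ _, h⟩)
      have e : t * s = -2 := by
        have h' := h1
        simp only [X] at h'
        rw [div_eq_one_iff_eq hD] at h'
        linear_combination -h'
      have e' : t * s' = -2 := by
        have h' := hX ▸ h1
        simp only [X] at h'
        rw [div_eq_one_iff_eq hD'] at h'
        linear_combination -h'
      have ht0 : t ≠ 0 := fun h0 => h2 (by rw [h0, zero_mul] at e; linear_combination e)
      exact mul_left_cancel₀ ht0 (e.trans e'.symm)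
    · simp only [Y] at hY
      rw [← hX] at hY
      exact mul_right_cancel₀ (sub_ne_zero.2 h1) hY
  have hle : Nat.card {s : F // s ∉ T} ≤
      Nat.card (Subgroup.centralizer ({A} : Set (SpecialLinearGroup (Fin 2) F))) := by
    refine Nat.card_le_card_of_injective (fun s => ⟨⟨m s.1, hdet s.1 s.2⟩, ?_⟩) fun s s' h => ?_
    · refine Subgroup.mem_centralizer_singleton_iff.2 (Subtype.ext ?_)
      show m s.1 * A.1 = A.1 * m s.1
      simp [m, Matrix.add_mul, Matrix.mul_add]
    · exact Subtype.ext (hinj _ _ s.2 s'.2 (congrArg Subtype.val (congrArg Subtype.val h)))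
  have hcard : Nat.card {s : F // s ∉ T} = Fintype.card F - T.card := by
    rw [Nat.card_eq_fintype_card, Fintype.card_subtype_compl, Fintype.card_coe]
  omega

/-- Centralisers of nonidentity elements of `PSL(2, q)`. -/
theorem psl_centralizer_large [DecidableEq F] (h2 : (2 : F) ≠ 0)
    (w : ProjectiveSpecialLinearGroup (Fin 2) F) (hw : w ≠ 1) :
    Fintype.card F ≤ 2 * Nat.card (Subgroup.centralizer ({w} : Set (ProjectiveSpecialLinearGroup (Fin 2) F))) + 2 := by
  obtain ⟨A, rfl⟩ := QuotientGroup.mk'_surjective (Subgroup.center (SpecialLinearGroup (Fin 2) F)) w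
  set π := QuotientGroup.mk' (Subgroup.center (SpecialLinearGroup (Fin 2) F)) with hπ
  have hA : ∀ c : F, A.1 ≠ c • (1 : Matrix (Fin 2) (Fin 2) F) := fun c hc => hw (by
    refine (QuotientGroup.eq_one_iff A).2 (Subgroup.mem_center_iff.2 fun B => Subtype.ext ?_)
    show B.1 * A.1 = A.1 * B.1
    rw [hc]; simp)
  set C := Subgroup.centralizer ({A} : Set (SpecialLinearGroup (Fin 2) F)) with hC
  have h1 : Fintype.card F ≤ Nat.card C + 2 := sl_centralizer_large h2 A hA
  have hmap : C.map π ≤ Subgroup.centralizer ({π A} : Set (ProjectiveSpecialLinearGroup (Fin 2) F)) := by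
    rintro _ ⟨c, hc, rfl⟩
    rw [Subgroup.mem_centralizer_singleton_iff, ← map_mul, ← map_mul,
      Subgroup.mem_centralizer_singleton_iff.1 hc]
  have h3 : Nat.card C ≤ Nat.card (C.map π) * 2 := by
    rw [← (π.subgroupMap C).ker.index_mul_card, Subgroup.index_ker,
      MonoidHom.range_eq_top.2 (π.subgroupMap_surjective C), Subgroup.card_top]
    refine Nat.mul_le_mul_left _ ?_
    refine le_trans (Nat.card_le_card_of_injective (fun c : (π.subgroupMap C).ker =>
      (⟨((c.1 : C) : SpecialLinearGroup (Fin 2) F), ?_⟩ :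
        Subgroup.center (SpecialLinearGroup (Fin 2) F))) fun a b h => ?_) ?_
    · exact (QuotientGroup.eq_one_iff _).1 (congrArg Subtype.val c.2)
    · exact Subtype.ext (Subtype.ext (congrArg
        (fun d : Subgroup.center (SpecialLinearGroup (Fin 2) F) => (d : SpecialLinearGroup (Fin 2) F)) h))
    · rw [ClassicalSL.card_center_sl, Fintype.card_fin]
      exact Nat.gcd_le_left _ (by norm_num)
  have h4 := Nat.card_le_card_of_injective _ (Subgroup.inclusion_injective hmap)
  exact h1.trans (Nat.add_le_add_right (h3.trans (by rw [mul_comm]; exact Nat.mul_le_mul_left 2 h4)) 2)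

end Cfsg.Agent.SmallCent
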