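import Cfsg.Agent.Lib.SmallCent.Four
import Cfsg.Agent.Lib.SmallCent.PSL
import Cfsg.Agent.Lib.SelfThree.Main
import Cfsg.Agent.Lib.GW.Goal
import Cfsg.Agent.S0497

/-!
Simple groups with an element whose centraliser has order at most four.
-/

set_option autoImplicit false
set_option linter.style.haveILetI false

open Cfsg Subgroup

namespace Cfsg.Agent.SmallCent

universe u

variable {G : Type u} [Group G] [Finite G] [IsSimpleGroup G]

/-- The conclusion. -/
def Listed (G : Type u) [Group G] : Prop :=
  Nonempty (G ≃* ↥(alternatingGroup (Fin 5))) ∨ Nonempty (G ≃* ↥(alternatingGroup (Fin 6))) ∨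
    Nonempty (G ≃* ↥(alternatingGroup (Fin 7))) ∨
    (∃ (F : Type) (_ : Field F) (_ : Fintype F), Fintype.card F = 7 ∧
      Nonempty (G ≃* Matrix.ProjectiveSpecialLinearGroup (Fin 2) F))

omit [IsSimpleGroup G] in
theorem card_psl (F : Type) [Field F] [Fintype F] [DecidableEq F] :
    Nat.gcd 2 (Fintype.card F - 1) * ((Fintype.card F - 1) *
      Nat.card (Matrix.ProjectiveSpecialLinearGroup (Fin 2) F)) =
      (Fintype.card F ^ 2 - 1) * (Fintype.card F ^ 2 - Fintype.card F) := by
  have h := ClassicalSL.card_psl_mul (ι := Fin 2) (F := F)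
  rw [Matrix.card_GL_field, Nat.card_eq_fintype_card, Fintype.card_fin, Fin.prod_univ_two] at h
  simpa [← Nat.card_eq_fintype_card] using h

/-- The centraliser has order three. -/
theorem listed_three (hG : ¬ IsCyclic G) {w : G}
    (hC : Nat.card (centralizer ({w} : Set G)) = 3) (hw : orderOf w = 3) : Listed G := by
  haveI : Fact (Nat.Prime 7) := ⟨by norm_num⟩
  have hz : centralizer ({w} : Set G) = zpowers w := (eq_of_le_of_card_ge
    (zpowers_le.2 (mem_centralizer_singleton_iff.2 rfl)) (by rw [hC, Nat.card_zpowers, hw])).symm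
  rcases SelfThree.main (Nat.card G) G rfl w hw hz with ⟨N, hN, -, -, h⟩ | ⟨N, hN, -, -, ⟨e⟩⟩ | ⟨e⟩
  · exfalso
    rcases IsSimpleGroup.eq_bot_or_eq_top_of_normal N hN with rfl | rfl
    · rcases h with h | ⟨⟨e⟩⟩
      · haveI : Fact (Nat.Prime 3) := ⟨Nat.prime_three⟩
        refine hG (isCyclic_of_prime_card (p := 3) ?_)
        rw [← h]
        exact (Nat.card_congr QuotientGroup.quotientBot.toEquiv).symm
      · let χ : G →* ℤˣ := Equiv.Perm.sign.comp
          (QuotientGroup.quotientBot.symm.trans e).toMonoidHom
        have h1 := SignThompson.hom_eq_one (residual_top hG) χ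
          ((QuotientGroup.quotientBot.symm.trans e).symm (Equiv.swap 0 1))
        simp only [χ, MonoidHom.comp_apply, MulEquiv.coe_toMonoidHom, MulEquiv.apply_symm_apply] at h1
        rw [Equiv.Perm.sign_swap (by decide)] at h1
        exact absurd h1 (by decide)
    · have h1 : Nat.card (G ⧸ (⊤ : Subgroup G)) = 1 := index_top
      rcases h with h | ⟨⟨e⟩⟩
      · omega
      · rw [Nat.card_congr e.toEquiv, Nat.card_perm, Nat.card_fin] at h1
        norm_num [Nat.factorial] at h1
  · rcases IsSimpleGroup.eq_bot_or_eq_top_of_normal N hN with rfl | rfl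
    · exact Or.inl ⟨QuotientGroup.quotientBot.symm.trans e⟩
    · exfalso
      have h1 : Nat.card (G ⧸ (⊤ : Subgroup G)) = 1 := index_top
      rw [Nat.card_congr e.toEquiv, nat_card_alternatingGroup, Nat.card_fin] at h1
      norm_num [Nat.factorial] at h1
  · exact Or.inr (Or.inr (Or.inr ⟨ZMod 7, inferInstance, inferInstance, ZMod.card 7, e⟩))

/-- A group `PSL(2, q)` with a small centraliser. -/
theorem listed_target {w : G} (hw : w ≠ 1) (hC : Nat.card (centralizer ({w} : Set G)) ≤ 4)
    (hT : GW.IsTarget G) : Listed G := by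
  rcases hT with ⟨F, _, _, hodd, h3, ⟨e⟩⟩ | h
  swap
  · exact Or.inr (Or.inr (Or.inl h))
  classical
  have h2 : (2 : F) ≠ 0 := by
    refine Ring.two_ne_zero fun hchar => ?_
    have := FiniteField.even_card_of_char_two hchar
    rw [Nat.odd_iff] at hodd
    omega
  have hew : e w ≠ 1 := fun h => hw (e.injective (h.trans (map_one e).symm))
  have hle := psl_centralizer_large h2 (e w) hew
  have hCe : Nat.card (centralizer ({e w} : Set (Matrix.ProjectiveSpecialLinearGroup (Fin 2) F))) ≤
      Nat.card (centralizer ({w} : Set G)) := by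
    refine Nat.card_le_card_of_injective (fun c => ⟨e.symm c, mem_centralizer_singleton_iff.2 (e.injective ?_)⟩)
      fun a b h => Subtype.ext (e.symm.injective (congrArg Subtype.val h))
    simp [mem_centralizer_singleton_iff.1 c.2]
  have hq : Fintype.card F = 5 ∨ Fintype.card F = 7 ∨ Fintype.card F = 9 := by
    rw [Nat.odd_iff] at hodd
    omega
  have hcard := card_psl F
  rw [← Nat.card_congr e.toEquiv] at hcard
  rcases hq with h | h | h <;> rw [h] at hcard
  · refine Or.inl (S0494.result (G := G) ?_)
    norm_num at hcard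
    omega
  · exact Or.inr (Or.inr (Or.inr ⟨F, inferInstance, inferInstance, h, ⟨e⟩⟩))
  · refine Or.inr (Or.inl (S0497.result (G := G) ?_))
    norm_num at hcard
    omega

/-- The theorem, given the classification of simple groups with dihedral Sylow 2-subgroups. -/
theorem main (hGW : GW.SimpleDihedral.{u}) (hG : ¬ IsCyclic G) (w : G)
    (hw : Nat.card (centralizer ({w} : Set G)) ≤ 4) : Listed G := by
  haveI : Fact (Nat.Prime 2) := ⟨Nat.prime_two⟩
  have hw1 : w ≠ 1 := by
    rintro rfl
    rw [card_centralizer_of_central (Subgroup.one_mem (center G))] at hw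
    have hpos := Nat.card_pos (α := G)
    interval_cases hn : Nat.card G
    · haveI := (Nat.card_eq_one_iff_unique.1 hn).1
      exact hG inferInstance
    · exact hG (isCyclic_of_prime_card hn)
    · haveI : Fact (Nat.Prime 3) := ⟨Nat.prime_three⟩
      exact hG (isCyclic_of_prime_card hn)
    · have hp : IsPGroup 2 G := IsPGroup.of_card (n := 2) (by rw [hn]; norm_num)
      haveI : Nontrivial G := Finite.one_lt_card_iff_nontrivial.1 (by omega)
      haveI := hp.center_nontrivial
      exact (Subgroup.nontrivial_iff_ne_bot _).1 inferInstance (center_eq_bot hG)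
  have hwC : w ∈ centralizer ({w} : Set G) := mem_centralizer_singleton_iff.2 rfl
  have hdvd : orderOf w ∣ Nat.card (centralizer ({w} : Set G)) := orderOf_dvd_natCard _ hwC
  have ho1 : orderOf w ≠ 1 := fun h => hw1 (orderOf_eq_one_iff.1 h)
  have hpos := Nat.card_pos (α := centralizer ({w} : Set G))
  have ho4 : orderOf w ≤ 4 := (Nat.le_of_dvd hpos hdvd).trans hw
  have hop := orderOf_pos w
  have hcases : (orderOf w = 2 ∧ Nat.card (centralizer ({w} : Set G)) = 2) ∨
      (orderOf w = 3 ∧ Nat.card (centralizer ({w} : Set G)) = 3) ∨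
      (orderOf w = 2 ∧ Nat.card (centralizer ({w} : Set G)) = 4) ∨
      (orderOf w = 4 ∧ Nat.card (centralizer ({w} : Set G)) = 4) := by
    interval_cases h : orderOf w <;> interval_cases h' : Nat.card (centralizer ({w} : Set G)) <;> omega
  rcases hcases with ⟨h1, h2⟩ | ⟨h1, h2⟩ | ⟨h1, h2⟩ | ⟨h1, h2⟩
  · exact absurd h2 (not_card_two hG h1)
  · exact listed_three hG h2 h1
  · by_cases hexp : ∀ u ∈ centralizer ({w} : Set G), u * u = 1
    · obtain ⟨P, e⟩ := involution_case hG h1 h2 hexp
      exact listed_target hw1 hw (hGW G P 2 le_rfl e)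
    · push Not at hexp
      obtain ⟨u, hu, huu⟩ := hexp
      have huo : orderOf u = 4 := by
        have h3 : orderOf u ∣ 2 ^ 2 := by
          rw [show 2 ^ 2 = Nat.card (centralizer ({w} : Set G)) by rw [h2]; norm_num]
          exact orderOf_dvd_natCard _ hu
        obtain ⟨j, hj, hje⟩ := (Nat.dvd_prime_pow Nat.prime_two).1 h3
        interval_cases j
        · have hu1 : u = 1 := orderOf_eq_one_iff.1 (by simpa using hje)
          exact absurd (by rw [hu1, one_mul]) huu
        · exact absurd (by rw [← pow_two, ← show orderOf u = 2 by simpa using hje, pow_orderOf_eq_one]) huu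
        · simpa using hje
      have hCeq : centralizer ({w} : Set G) = zpowers u :=
        (eq_of_le_of_card_ge (zpowers_le.2 hu) (by rw [h2, Nat.card_zpowers, huo])).symm
      have hwu : w = u * u := eq_sq huo (hCeq ▸ hwC) h1
      have hsub : centralizer ({u} : Set G) ≤ centralizer ({w} : Set G) := fun c hc => by
        have h := mem_centralizer_singleton_iff.1 hc
        rw [mem_centralizer_singleton_iff, hwu, ← mul_assoc, h, mul_assoc, h, ← mul_assoc]
      have hu4 : Nat.card (centralizer ({u} : Set G)) = 4 := le_antisymm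
        (h2 ▸ Nat.card_le_card_of_injective _ (inclusion_injective hsub))
        (by
          rw [← huo, ← Nat.card_zpowers]
          exact Nat.card_le_card_of_injective _
            (inclusion_injective (zpowers_le.2 (mem_centralizer_singleton_iff.2 rfl))))
      obtain ⟨P, e⟩ := four_case hG huo hu4
      exact listed_target hw1 hw (hGW G P 4 (by norm_num) e)
  · obtain ⟨P, e⟩ := four_case hG h1 h2
    exact listed_target hw1 hw (hGW G P 4 (by norm_num) e)

end Cfsg.Agent.SmallCent
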