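import Cfsg.Agent.Lib.LargeExtra.FixedTransfer
import Mathlib.GroupTheory.PGroup
import Mathlib.GroupTheory.Sylow
import Mathlib.GroupTheory.Subgroup.Simple

/-!
A simple group has no 2-element whose conjugates in a Sylow subgroup avoid an index two subgroup
containing all smaller elements.
-/

set_option autoImplicit false
set_option linter.style.haveILetI false

open Cfsg MulAction

namespace Cfsg.Agent.SmallCent

universe u

variable {G : Type u} [Group G] [Finite G]

omit [Finite G] in
theorem center_eq_bot [IsSimpleGroup G] (hG : ¬ IsCyclic G) : Subgroup.center G = ⊥ := by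
  refine (IsSimpleGroup.eq_bot_or_eq_top_of_normal _ inferInstance).resolve_right fun h => hG ?_
  letI : CommGroup G := Group.commGroupOfCenterEqTop h
  exact IsSimpleGroup.isCyclic

theorem residual_top [IsSimpleGroup G] (hG : ¬ IsCyclic G) : Cfsg.pResidual 2 G = ⊤ := by
  haveI : Fact (Nat.Prime 2) := ⟨Nat.prime_two⟩
  haveI := Cfsg.Agent.PBasic.pResidual_characteristic 2 G
  refine (IsSimpleGroup.eq_bot_or_eq_top_of_normal (Cfsg.pResidual 2 G) inferInstance).resolve_left fun h => ?_
  have h1 : IsPGroup 2 (G ⧸ Cfsg.pResidual 2 G) := Cfsg.Agent.PBasic.quotient_pResidual_isPGroup 2 G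
  have hp : IsPGroup 2 G := fun g => by
    obtain ⟨k, hk⟩ := h1 (g : G ⧸ Cfsg.pResidual 2 G)
    refine ⟨k, ?_⟩
    rw [← QuotientGroup.mk_pow, QuotientGroup.eq_one_iff, h, Subgroup.mem_bot] at hk
    exact hk
  haveI := hp.center_nontrivial
  exact (Subgroup.nontrivial_iff_ne_bot _).1 inferInstance (center_eq_bot hG)

/-- The transfer argument. -/
theorem false_of_transfer [IsSimpleGroup G] (hG : ¬ IsCyclic G) (P : Sylow 2 G) (M : Subgroup (P : Subgroup G))
    (hM : M.index = 2) {w : G} {m : ℕ} (hw : orderOf w = 2 ^ m)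
    (hsmall : ∀ a : (P : Subgroup G), orderOf a < orderOf w → a ∈ M)
    (hout : ∀ g : G, ∀ h : g⁻¹ * w * g ∈ (P : Subgroup G), (⟨_, h⟩ : (P : Subgroup G)) ∉ M) : False := by
  classical
  haveI : Fact (Nat.Prime 2) := ⟨Nat.prime_two⟩
  let φ : (P : Subgroup G) →* ℤˣ :=
    { toFun := fun a => if a ∈ M then 1 else -1
      map_one' := if_pos M.one_mem
      map_mul' := fun a b => by
        have h := Subgroup.mul_mem_iff_of_index_two hM (a := a) (b := b)
        by_cases ha : a ∈ M <;> by_cases hb : b ∈ M <;> simp [h, ha, hb] }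
  haveI : Fintype (G ⧸ (P : Subgroup G)) := Fintype.ofFinite _
  have h1 := LargeExtra.prod_cosetVal (residual_top hG) φ hw fun a _ ha =>
    if_pos (hsmall a ha)
  have hfix : ∀ x : G ⧸ (P : Subgroup G), w • x = x ↔ x.out⁻¹ * w * x.out ∈ (P : Subgroup G) := fun x => by
    conv_lhs => rw [← QuotientGroup.out_eq' x, MulAction.Quotient.smul_mk, QuotientGroup.eq, smul_eq_mul,
      ← Subgroup.inv_mem_iff]
    congr! 1
    group
  have hval : ∀ x : G ⧸ (P : Subgroup G),
      LargeExtra.cosetVal φ w x = if w • x = x then -1 else 1 := by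
    intro x
    unfold LargeExtra.cosetVal
    by_cases h : w • x = x
    · rw [dif_pos ((hfix x).1 h), if_pos h]
      exact if_neg (hout _ ((hfix x).1 h))
    · rw [dif_neg fun h' => h ((hfix x).2 h'), if_neg h]
  rw [Finset.prod_congr rfl fun x _ => hval x, Finset.prod_ite, Finset.prod_const_one, mul_one,
    Finset.prod_const] at h1
  have hW : IsPGroup 2 (Subgroup.zpowers w) :=
    IsPGroup.of_card (n := m) (by rw [Nat.card_zpowers, hw])
  have hmod := hW.card_modEq_card_fixedPoints (G ⧸ (P : Subgroup G))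
  have hcount : Nat.card (fixedPoints (Subgroup.zpowers w) (G ⧸ (P : Subgroup G))) =
      (Finset.univ.filter fun x : G ⧸ (P : Subgroup G) => w • x = x).card := by
    rw [← Nat.card_eq_finsetCard]
    refine Nat.card_congr (Equiv.subtypeEquivRight fun x => ?_)
    simp only [Finset.mem_filter, Finset.mem_univ, true_and, MulAction.mem_fixedPoints]
    refine ⟨fun h => h ⟨w, Subgroup.mem_zpowers w⟩, fun h => ?_⟩
    rintro ⟨v, hv⟩
    have hst : w ∈ MulAction.stabilizer G x := h
    exact MulAction.mem_stabilizer_iff.1 (Subgroup.zpowers_le.2 hst hv)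
  have hodd : ¬ 2 ∣ (P : Subgroup G).index := P.not_dvd_index
  rw [← Subgroup.index, hcount] at hmod
  have : Odd (Finset.univ.filter fun x : G ⧸ (P : Subgroup G) => w • x = x).card := by
    rw [Nat.odd_iff]
    have := Nat.two_dvd_ne_zero.1 hodd
    unfold Nat.ModEq at hmod
    omega
  rw [this.neg_one_pow] at h1
  exact absurd h1 (by decide)

end Cfsg.Agent.SmallCent
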