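import Cfsg.Agent.Lib.SmallCent.Transfer
import Cfsg.Agent.Lib.TwoGroups.CentFour
import Cfsg.Agent.Lib.BrauerSuzuki.Main
import Mathlib.GroupTheory.SpecificGroups.KleinFour
import Mathlib.GroupTheory.SpecificGroups.Dihedral

/-!
Simple groups with an element whose centraliser has order four have dihedral Sylow 2-subgroups of
order at most eight.
-/

set_option autoImplicit false
set_option linter.style.haveILetI false

open Cfsg Subgroup

namespace Cfsg.Agent.SmallCent

universe u

variable {G : Type u} [Group G]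

theorem card_cent_conj (w g : G) :
    Nat.card (centralizer ({g⁻¹ * w * g} : Set G)) = Nat.card (centralizer ({w} : Set G)) := by
  refine Nat.card_congr
    { toFun := fun c => ⟨g * c * g⁻¹, ?_⟩
      invFun := fun c => ⟨g⁻¹ * c * g, ?_⟩
      left_inv := fun c => Subtype.ext (by group)
      right_inv := fun c => Subtype.ext (by group) }
  · have h := mem_centralizer_singleton_iff.1 c.2
    rw [mem_centralizer_singleton_iff]
    calc g * c * g⁻¹ * w = g * (c * (g⁻¹ * w * g)) * g⁻¹ := by group
      _ = g * (g⁻¹ * w * g * c) * g⁻¹ := by rw [h]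
      _ = w * (g * c * g⁻¹) := by group
  · have h := mem_centralizer_singleton_iff.1 c.2
    rw [mem_centralizer_singleton_iff]
    calc g⁻¹ * c * g * (g⁻¹ * w * g) = g⁻¹ * (c * w) * g := by group
      _ = g⁻¹ * (w * c) * g := by rw [h]
      _ = _ := by group

variable [Finite G]

theorem card_cent_le {P : Subgroup G} (v : P) :
    Nat.card (centralizer ({v} : Set P)) ≤ Nat.card (centralizer ({(v : G)} : Set G)) :=
  Nat.card_le_card_of_injective
    (fun c => ⟨((c : P) : G), mem_centralizer_singleton_iff.2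
      (congrArg Subtype.val (mem_centralizer_singleton_iff.1 c.2))⟩)
    fun _ _ h => Subtype.ext (Subtype.ext (congrArg (fun d : centralizer ({(v : G)} : Set G) => (d : G)) h))

theorem card_cent_eq {P : Subgroup G} (v : P) (h : centralizer ({(v : G)} : Set G) ≤ P) :
    Nat.card (centralizer ({v} : Set P)) = Nat.card (centralizer ({(v : G)} : Set G)) := by
  refine le_antisymm (card_cent_le v) (Nat.card_le_card_of_injective
    (fun c => ⟨⟨c, h c.2⟩, mem_centralizer_singleton_iff.2 (Subtype.ext
      (mem_centralizer_singleton_iff.1 c.2))⟩) fun _ _ h => Subtype.ext ?_)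
  exact congrArg (fun d : centralizer ({v} : Set P) => ((d : P) : G)) h

omit [Finite G] in
theorem two_group {p : Subgroup G} {n : ℕ} (h : Nat.card p = 2 ^ n) : IsPGroup 2 p :=
  IsPGroup.of_card h

omit [Finite G] in
/-- The involution of a cyclic group. -/
theorem invol_eq {a y : G} (hy : y ∈ zpowers a) (hy2 : orderOf y = 2) :
    y = a ^ (((orderOf a) / 2 : ℕ) : ℤ) := by
  obtain ⟨k, rfl⟩ := mem_zpowers_iff.1 hy
  have h1 : a ^ (k * 2) = 1 := by
    rw [zpow_mul, show (a ^ k) ^ (2 : ℤ) = (a ^ k) ^ (2 : ℕ) from zpow_natCast _ 2, ← hy2,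
      pow_orderOf_eq_one]
  have h2 : ¬ ((orderOf a : ℤ) ∣ k) := fun h => by
    rw [orderOf_dvd_iff_zpow_eq_one.1 h, orderOf_one] at hy2
    omega
  rw [← orderOf_dvd_iff_zpow_eq_one] at h1
  refine zpow_eq_zpow_iff_modEq.2 (Int.modEq_iff_dvd.2 ?_)
  obtain ⟨c, hc⟩ := h1
  rcases Int.even_or_odd' c with ⟨d, hd | hd⟩
  · exact absurd ⟨d, by rw [hd] at hc; linarith⟩ h2
  · have he : (orderOf a : ℤ) = 2 * ((orderOf a / 2 : ℕ) : ℤ) := by
      have : Even ((orderOf a : ℤ) * c) := hc ▸ even_two.mul_left k
      rcases Int.even_mul.1 this with h | h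
      · obtain ⟨e, he⟩ := h
        omega
      · exact absurd h (Int.not_even_iff_odd.2 ⟨d, hd⟩)
    generalize ((orderOf a / 2 : ℕ) : ℤ) = e at he ⊢
    refine ⟨-d, ?_⟩
    rw [hd, he] at hc
    rw [he]
    linarith

theorem card_centralizer_of_central {P : Type*} [Group P] {v : P} (h : v ∈ center P) :
    Nat.card (centralizer ({v} : Set P)) = Nat.card P := by
  rw [show centralizer ({v} : Set P) = ⊤ from eq_top_iff.2 fun x _ =>
    mem_centralizer_singleton_iff.2 (mem_center_iff.1 h x), card_top]

variable [IsSimpleGroup G] {w : G}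

/-- No involution of a simple group generates its centraliser. -/
theorem not_card_two (hG : ¬ IsCyclic G) (hw : orderOf w = 2) :
    Nat.card (centralizer ({w} : Set G)) ≠ 2 := by
  intro hC
  haveI : Fact (Nat.Prime 2) := ⟨Nat.prime_two⟩
  obtain ⟨P, hP⟩ := (two_group (n := 1) (by rw [hC, pow_one]) :
    IsPGroup 2 (centralizer ({w} : Set G))).exists_le_sylow
  have hwC : w ∈ centralizer ({w} : Set G) := mem_centralizer_singleton_iff.2 rfl
  set x : (P : Subgroup G) := ⟨w, hP hwC⟩ with hx
  have hxC : Nat.card (centralizer ({x} : Set (P : Subgroup G))) = 2 := (card_cent_eq x hP).trans hC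
  have hxo : orderOf x = 2 := by rw [hx, orderOf_mk, hw]
  haveI : Nontrivial (P : Subgroup G) := ⟨⟨x, 1, fun h => by rw [h, orderOf_one] at hxo; omega⟩⟩
  haveI := P.isPGroup'.center_nontrivial
  obtain ⟨c, hc, hcne⟩ := (center (P : Subgroup G)).nontrivial_iff_exists_ne_one.1 inferInstance
  have hcx : c ∈ zpowers x := by
    have : zpowers x = centralizer ({x} : Set (P : Subgroup G)) := eq_of_le_of_card_ge
      (zpowers_le.2 (mem_centralizer_singleton_iff.2 rfl)) (by rw [hxC, Nat.card_zpowers, hxo])
    rw [this]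
    exact mem_centralizer_singleton_iff.2 (mem_center_iff.1 hc x).symm
  have hcx' : c = x := by
    obtain ⟨k, rfl⟩ := mem_zpowers_iff.1 hcx
    rw [← zpow_mod_orderOf, hxo] at hcne ⊢
    rcases (show k % ((2 : ℕ) : ℤ) = 0 ∨ k % ((2 : ℕ) : ℤ) = 1 by omega) with e | e <;> rw [e] at hcne ⊢
    · exact absurd (zpow_zero x) hcne
    · exact zpow_one x
  have hP2 : Nat.card (P : Subgroup G) = 2 := (card_centralizer_of_central (hcx' ▸ hc)).symm.trans hxC
  refine false_of_transfer hG P ⊥ (by rw [index_bot, hP2]) (m := 1) (by rw [hw, pow_one]) (fun a ha => ?_)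
    fun g h hb => ?_
  · rw [mem_bot, ← orderOf_eq_one_iff]
    have := orderOf_pos a
    omega
  · have h2 : g⁻¹ * w * g = 1 := congrArg Subtype.val (mem_bot.1 hb)
    have h3 : w = 1 := by
      calc w = g * (g⁻¹ * w * g) * g⁻¹ := by group
        _ = 1 := by rw [h2, mul_one, mul_inv_cancel]
    rw [h3, orderOf_one] at hw
    omega

/-- An involution with centraliser of order four lies in a Sylow subgroup that is a four-group. -/
theorem involution_case (hG : ¬ IsCyclic G) (hw : orderOf w = 2)
    (hC : Nat.card (centralizer ({w} : Set G)) = 4)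
    (hexp : ∀ u ∈ centralizer ({w} : Set G), u * u = 1) :
    ∃ P : Sylow 2 G, Nonempty ((P : Subgroup G) ≃* DihedralGroup 2) := by
  haveI : Fact (Nat.Prime 2) := ⟨Nat.prime_two⟩
  obtain ⟨P, hP⟩ := (two_group (n := 2) (by rw [hC]; norm_num) :
    IsPGroup 2 (centralizer ({w} : Set G))).exists_le_sylow
  set x : (P : Subgroup G) := ⟨w, hP (mem_centralizer_singleton_iff.2 rfl)⟩ with hx
  have hxC : Nat.card (centralizer ({x} : Set (P : Subgroup G))) = 4 := (card_cent_eq x hP).trans hC
  have hxo : orderOf x = 2 := by rw [hx, orderOf_mk, hw]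
  by_cases h4 : Nat.card (P : Subgroup G) = 4
  · refine ⟨P, ?_⟩
    have hall : ∀ u : (P : Subgroup G), u * u = 1 := fun u => by
      have hu : (u : G) ∈ centralizer ({w} : Set G) := by
        have h := eq_of_le_of_card_ge hP (by rw [h4, hC])
        rw [h]; exact u.2
      exact Subtype.ext (hexp _ hu)
    haveI : IsKleinFour (P : Subgroup G) := by
      refine ⟨h4, ?_⟩
      refine (Nat.dvd_prime Nat.prime_two).1 (Monoid.exponent_dvd_of_forall_pow_eq_one fun u => by
        rw [pow_two]; exact hall u) |>.resolve_left fun h => ?_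
      haveI := Monoid.exp_eq_one_iff.1 h
      rw [Nat.card_eq_one_iff_unique.2 ⟨inferInstance, inferInstance⟩] at h4
      omega
    exact IsKleinFour.nonempty_mulEquiv
  exfalso
  have h8 : 8 ≤ Nat.card (P : Subgroup G) := by
    obtain ⟨k, hk⟩ := IsPGroup.iff_card.1 P.isPGroup'
    have h4' : 4 ≤ Nat.card (P : Subgroup G) := hxC ▸ card_le_card_group _
    rcases Nat.lt_or_ge k 3 with h | h
    · interval_cases k <;> omega
    · rw [hk]; exact le_trans (by norm_num) (Nat.pow_le_pow_right two_pos h)
  obtain ⟨a, ha⟩ := CentFour.exists_cyclic_index_two _ P.isPGroup' x hxo hxC h8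
  haveI hAn : (zpowers a).Normal := normal_of_index_eq_two ha
  refine false_of_transfer hG P (zpowers a) ha (m := 1) (by rw [hw, pow_one]) (fun b hb => ?_)
    fun g h hmem => ?_
  · have : b = 1 := by
      rw [← orderOf_eq_one_iff]
      have := orderOf_pos b
      omega
    rw [this]
    exact one_mem _
  · set v : (P : Subgroup G) := ⟨_, h⟩ with hv
    have hvo : orderOf v = 2 := by
      rw [hv, orderOf_mk, show g⁻¹ * w * g = MulAut.conj g⁻¹ w by simp, MulEquiv.orderOf_eq, hw]
    have hvC : Nat.card (centralizer ({v} : Set (P : Subgroup G))) ≤ 4 := by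
      refine (card_cent_le v).trans (le_of_eq ?_)
      rw [← hC, ← card_cent_conj w g, hv]
    have hvz : v ∈ center (P : Subgroup G) := mem_center_iff.2 fun s => by
      have h1 := hAn.conj_mem v hmem s
      have h2 : orderOf (s * v * s⁻¹) = 2 := by rw [← MulAut.conj_apply, MulEquiv.orderOf_eq, hvo]
      exact mul_inv_eq_iff_eq_mul.1 ((invol_eq h1 h2).trans (invol_eq hmem hvo).symm)
    rw [card_centralizer_of_central hvz] at hvC
    omega

/-- A simple group has two commuting involutions. -/
theorem not_rankOne (hG : ¬ IsCyclic G) (h2 : 2 ∣ Nat.card G) : ¬ BrauerSuzuki.RankOne G := by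
  intro hR
  haveI : Fact (Nat.Prime 2) := ⟨Nat.prime_two⟩
  obtain ⟨z, hz⟩ := exists_prime_orderOf_dvd_card' (G := G) 2 h2
  have hZ := BrauerSuzuki.inZStar G hR z hz
  haveI := Cfsg.Agent.FittingCores.pPrimeCore_normal (G := G) 2
  have hO : pPrimeCore 2 G = ⊥ := (IsSimpleGroup.eq_bot_or_eq_top_of_normal (pPrimeCore 2 G)
    inferInstance).resolve_right fun htop => by
      have := Cfsg.Agent.FittingCores.pPrimeCore_coprime (G := G) 2
      rw [htop, card_top] at this
      exact Nat.prime_two.coprime_iff_not_dvd.1 this.symm h2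
  have hzc : z ∈ center G := mem_center_iff.2 fun g => by
    have h := hZ g
    rw [hO, mem_bot] at h
    exact mul_inv_eq_iff_eq_mul.1 (mul_inv_eq_one.1 h)
  rw [center_eq_bot hG, mem_bot] at hzc
  rw [hzc, orderOf_one] at hz
  omega

end Cfsg.Agent.SmallCent
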