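import Cfsg.Agent.Lib.SmallCent.Shape

/-!
Simple groups with a self-centralising cyclic subgroup of order four have dihedral Sylow
2-subgroups of order eight.
-/

set_option autoImplicit false
set_option linter.style.haveILetI false

open Cfsg Subgroup

namespace Cfsg.Agent.SmallCent

universe u

section local_two

variable {S : Type u} [Group S] [Finite S] {w : S}

omit [Finite S] in
theorem eq_sq {y : S} (hw : orderOf w = 4) (hy : y ∈ zpowers w) (hy2 : orderOf y = 2) : y = w * w := by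
  have h := invol_eq hy hy2
  rwa [hw, show ((4 / 2 : ℕ) : ℤ) = ((2 : ℕ) : ℤ) from rfl, zpow_natCast, pow_two] at h

/-- A cyclic subgroup of index two. -/
theorem cyclic_index_two (hS : IsPGroup 2 S) (hw : orderOf w = 4)
    (hC : centralizer ({w} : Set S) = zpowers w) (h16 : 16 ≤ Nat.card S) :
    ∃ a : S, (zpowers a).index = 2 := by
  haveI : Fact (Nat.Prime 2) := ⟨Nat.prime_two⟩
  haveI : Nontrivial S := Finite.one_lt_card_iff_nontrivial.1 (by omega)
  obtain ⟨z, hz, hzo⟩ := CentFour.exists_central_involution hS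
  have hzw : z = w * w := eq_sq hw (hC ▸ mem_centralizer_singleton_iff.2 (mem_center_iff.1 hz w).symm) hzo
  have hzz : z * z = 1 := by rw [← pow_two, ← hzo, pow_orderOf_eq_one]
  set Z := zpowers z with hZ
  haveI hZn : Z.Normal := ⟨fun a ha s => by
    obtain ⟨j, rfl⟩ := mem_zpowers_iff.1 ha
    rw [← conj_zpow, mem_center_iff.1 hz s, mul_inv_cancel_right]; exact ha⟩
  have memZ : ∀ v, v ∈ Z ↔ v = 1 ∨ v = z := fun v => by
    classical
    rw [hZ, mem_zpowers_iff_mem_range_orderOf, hzo]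
    simp [Finset.range_add_one, eq_comm, or_comm]
  set f := QuotientGroup.mk' Z with hf
  have hcardQ : Nat.card (S ⧸ Z) * 2 = Nat.card S := by
    rw [Z.card_eq_card_quotient_mul_card_subgroup, hZ, Nat.card_zpowers, hzo]
  set C := centralizer ({w} : Set S) with hCdef
  have hCcard : Nat.card C = 4 := by rw [hC, Nat.card_zpowers, hw]
  have hcom : ∀ s : S, f s * f w = f w * f s ↔ (s * w = w * s ∨ s * w = w * s * z) := by
    intro s
    rw [← map_mul, ← map_mul, eq_comm, hf, QuotientGroup.mk'_apply, QuotientGroup.mk'_apply,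
      QuotientGroup.eq, memZ, inv_mul_eq_one, inv_mul_eq_iff_eq_mul, eq_comm (a := w * s)]
  set K := (centralizer ({f w} : Set (S ⧸ Z))).comap f with hK
  have hKmem : ∀ s, s ∈ K ↔ (s * w = w * s ∨ s * w = w * s * z) := fun s => by
    rw [hK, mem_comap, mem_centralizer_singleton_iff, hcom]
  have hCK : C ≤ K := fun s hs => (hKmem s).2 (Or.inl (mem_centralizer_singleton_iff.1 hs))
  haveI := hS.isNilpotent
  have hCtop : C < ⊤ := lt_top_iff_ne_top.2 fun h => by rw [h, card_top] at hCcard; omega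
  obtain ⟨g, hg, hgC⟩ := SetLike.exists_of_lt (Group.normalizerCondition_of_isNilpotent (G := S) _ hCtop)
  have hgK : g ∈ K := by
    rw [hKmem]
    have hwC : w ∈ C := mem_centralizer_singleton_iff.2 rfl
    have h1 := (mem_normalizer_iff.1 hg w).1 hwC
    rw [hC] at h1
    have ho : orderOf (g * w * g⁻¹) = 4 := by rw [← MulAut.conj_apply, MulEquiv.orderOf_eq, hw]
    obtain ⟨k, hk⟩ := mem_zpowers_iff.1 h1
    rw [← zpow_mod_orderOf, hw] at hk
    rcases (show k % ((4 : ℕ) : ℤ) = 0 ∨ k % ((4 : ℕ) : ℤ) = 1 ∨ k % ((4 : ℕ) : ℤ) = 2 ∨ k % ((4 : ℕ) : ℤ) = 3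
      by omega) with e | e | e | e <;> rw [e] at hk
    · rw [zpow_zero] at hk; rw [← hk, orderOf_one] at ho; omega
    · rw [zpow_one] at hk
      exact Or.inl (mul_inv_eq_iff_eq_mul.1 hk.symm)
    · exfalso
      rw [← hk, show w ^ (2 : ℤ) = w ^ 2 from zpow_natCast w 2, pow_two, ← hzw, hzo] at ho
      omega
    · refine Or.inr ?_
      rw [show w ^ (3 : ℤ) = w ^ 3 from zpow_natCast w 3, pow_succ', pow_two, ← hzw] at hk
      rw [mul_inv_eq_iff_eq_mul.1 hk.symm, mul_assoc, ← mem_center_iff.1 hz g, mul_assoc]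
  have hKcard : Nat.card K = 8 := by
    obtain ⟨j, hj⟩ := IsPGroup.iff_card.1 (hS.to_subgroup K)
    have hlt : 4 < Nat.card K := by
      rw [← hCcard]
      refine lt_of_le_of_ne (Nat.card_le_card_of_injective _ (inclusion_injective hCK)) fun h => hgC ?_
      rw [eq_of_le_of_card_ge hCK h.ge]; exact hgK
    have hle : Nat.card K ≤ 8 := by
      classical
      refine le_trans (Nat.card_le_card_of_injective (fun s : K => if hs : (s : S) ∈ C then
        ((true, ⟨s, hs⟩) : Bool × C) else (false, ⟨g⁻¹ * (s : S), ?_⟩)) fun s t h => ?_) ?_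
      · have e1 := ((hKmem _).1 s.2).resolve_left fun h => hs (mem_centralizer_singleton_iff.2 h)
        have e2 := ((hKmem _).1 hgK).resolve_left fun h => hgC (mem_centralizer_singleton_iff.2 h)
        rw [mem_centralizer_singleton_iff]
        have hc : ∀ y, y * z = z * y := fun y => mem_center_iff.1 hz y
        calc g⁻¹ * (s : S) * w = g⁻¹ * ((s : S) * w) := mul_assoc _ _ _
          _ = g⁻¹ * (w * (s : S) * z) := by rw [e1]
          _ = g⁻¹ * ((w * g * z) * (g⁻¹ * (s : S))) := by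
              rw [mul_assoc (w * g), ← hc (g⁻¹ * (s : S))]; group
          _ = g⁻¹ * ((g * w) * (g⁻¹ * (s : S))) := by rw [e2]
          _ = w * (g⁻¹ * (s : S)) := by group
      · by_cases hs : (s : S) ∈ C <;> by_cases ht : (t : S) ∈ C <;> simp [hs, ht] at h
        · exact h
        · exact h
      · rw [Nat.card_prod, hCcard]; simp
    have h1 : 2 ^ 2 < 2 ^ j := by rw [← hj]; simpa using hlt
    have h2 : 2 ^ j ≤ 2 ^ 3 := by rw [← hj]; simpa using hle
    have := (Nat.pow_lt_pow_iff_right (by norm_num : 1 < 2)).1 h1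
    have := (Nat.pow_le_pow_iff_right (by norm_num : 1 < 2)).1 h2
    rw [hj, show j = 3 by omega]; norm_num
  have hCbar : Nat.card (centralizer ({f w} : Set (S ⧸ Z))) = 4 := by
    have h3 := K.card_mul_index
    rw [hK, index_comap_of_surjective _ (QuotientGroup.mk'_surjective Z)] at h3
    have h4 := (centralizer ({f w} : Set (S ⧸ Z))).card_mul_index
    rw [← hK, hKcard] at h3
    refine Nat.eq_of_mul_eq_mul_right (m := (centralizer ({f w} : Set (S ⧸ Z))).index)
      (Nat.pos_of_ne_zero index_ne_zero_of_finite) ?_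
    rw [h4]; omega
  have hwbar : orderOf (f w) = 2 := by
    refine orderOf_eq_prime ?_ ?_
    · rw [← map_pow, pow_two, ← hzw]
      exact (QuotientGroup.eq_one_iff z).2 (mem_zpowers z)
    · rw [hf, Ne, QuotientGroup.mk'_apply, QuotientGroup.eq_one_iff, memZ]
      rintro (e | e)
      · rw [e, orderOf_one] at hw; omega
      · rw [e, hzo] at hw; omega
  obtain ⟨abar, habar⟩ := CentFour.exists_cyclic_index_two (S ⧸ Z) (hS.to_quotient Z) (f w) hwbar
    hCbar (by omega)
  obtain ⟨a, rfl⟩ := QuotientGroup.mk'_surjective Z abar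
  set A := (zpowers (f a)).comap f with hA
  have hAidx : A.index = 2 := by
    rw [hA, index_comap_of_surjective _ (QuotientGroup.mk'_surjective Z)]; exact habar
  have hAform : ∀ v ∈ A, ∃ j : ℤ, v = a ^ j ∨ v = a ^ j * z := by
    intro v hv
    obtain ⟨j, hj⟩ := mem_zpowers_iff.1 hv
    rw [← map_zpow, hf, QuotientGroup.mk'_apply, QuotientGroup.mk'_apply, QuotientGroup.eq, memZ,
      inv_mul_eq_one, inv_mul_eq_iff_eq_mul] at hj
    exact ⟨j, hj.elim (fun e => Or.inl e.symm) Or.inr⟩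
  have haA : a ∈ A := mem_zpowers (f a)
  haveI hAn : A.Normal := normal_of_index_eq_two hAidx
  obtain ⟨j, hj⟩ := hAform _ (hAn.conj_mem a haA w)
  obtain ⟨m, hm⟩ := hS a
  obtain ⟨e, -, hae⟩ := (Nat.dvd_prime_pow Nat.prime_two).1 (orderOf_dvd_of_pow_eq_one hm)
  have hA8 : 8 ≤ Nat.card A := by
    have h1 := A.card_mul_index
    rw [hAidx] at h1; omega
  have he : 2 ≤ e := by
    by_contra h
    have h1 := (zpowers (f a)).card_mul_index
    have h2 := A.card_mul_index
    rw [Nat.card_zpowers, habar] at h1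
    rw [hAidx] at h2
    have h3 : orderOf (f a) ≤ 2 ^ e := hae ▸ Nat.le_of_dvd (orderOf_pos a) (orderOf_map_dvd f a)
    have h4 : 2 ^ e ≤ 2 ^ 1 := Nat.pow_le_pow_right two_pos (by omega)
    omega
  set v := a ^ (2 ^ (e - 1)) with hv
  have hvv : v ^ (2 : ℕ) = 1 := by
    rw [hv, ← pow_mul, show 2 ^ (e - 1) * 2 = 2 ^ e by rw [← pow_succ]; congr 1; omega, ← hae,
      pow_orderOf_eq_one]
  have hv1 : v ≠ 1 := fun h => by
    have h1 := Nat.le_of_dvd (by positivity) (hae ▸ orderOf_dvd_of_pow_eq_one h)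
    have h2 : 2 ^ (e - 1) < 2 ^ e := Nat.pow_lt_pow_right (by norm_num) (by omega)
    omega
  have hfix : w * v * w⁻¹ = v := by
    have hzp : z ^ (2 ^ (e - 1)) = 1 := by
      rw [show 2 ^ (e - 1) = 2 * 2 ^ (e - 2) by rw [← pow_succ']; congr 1; omega, pow_mul, pow_two,
        hzz, one_pow]
    have hxv : w * v * w⁻¹ = v ^ j := by
      rw [hv, ← conj_pow]
      rcases hj with h | h
      · rw [h, ← zpow_natCast, ← zpow_natCast, ← zpow_mul, ← zpow_mul, mul_comm]
      · rw [h, (show Commute (a ^ j) z from mem_center_iff.1 hz _).mul_pow, hzp, mul_one,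
          ← zpow_natCast, ← zpow_natCast, ← zpow_mul, ← zpow_mul, mul_comm]
    rcases Int.even_or_odd' j with ⟨l, hl | hl⟩
    · exfalso
      refine hv1 ((conj_eq_one_iff (a := w)).1 ?_)
      rw [hxv, hl, zpow_mul, show v ^ (2 : ℤ) = 1 by exact_mod_cast hvv, one_zpow]
    · rw [hxv, hl, zpow_add, zpow_one, zpow_mul, show v ^ (2 : ℤ) = 1 by exact_mod_cast hvv, one_zpow,
        one_mul]
  have hvC : v ∈ zpowers w := hC ▸ mem_centralizer_singleton_iff.2 (mul_inv_eq_iff_eq_mul.1 hfix).symm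
  have hvz : v = z := by
    rw [hzw]; exact eq_sq hw hvC (orderOf_eq_prime hvv hv1)
  refine ⟨a, ?_⟩
  rw [show zpowers a = A from le_antisymm (zpowers_le.2 haA) fun y hy => ?_, hAidx]
  have hzmem : z ∈ zpowers a := by rw [← hvz, hv]; exact pow_mem (mem_zpowers a) _
  obtain ⟨l, rfl | rfl⟩ := hAform y hy
  · exact zpow_mem (mem_zpowers a) l
  · exact mul_mem (zpow_mem (mem_zpowers a) l) hzmem

/-- The subgroup of index two used for the transfer. -/
theorem exists_transfer_subgroup (hS : IsPGroup 2 S) (hw : orderOf w = 4)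
    (hC : centralizer ({w} : Set S) = zpowers w) (h16 : 16 ≤ Nat.card S) :
    ∃ M : Subgroup S, M.index = 2 ∧ (∀ y : S, orderOf y < 4 → y ∈ M) ∧
      ∀ v : S, orderOf v = 4 → Nat.card (centralizer ({v} : Set S)) ≤ 4 → v ∉ M := by
  haveI : Fact (Nat.Prime 2) := ⟨Nat.prime_two⟩
  obtain ⟨a, ha⟩ := cyclic_index_two hS hw hC h16
  haveI hAn : (zpowers a).Normal := normal_of_index_eq_two ha
  obtain ⟨mm, hmm⟩ := hS a
  obtain ⟨m, -, hm⟩ := (Nat.dvd_prime_pow Nat.prime_two).1 (orderOf_dvd_of_pow_eq_one hmm)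
  have hA8 : 8 ≤ 2 ^ m := by
    have h1 := (zpowers a).card_mul_index
    rw [ha, Nat.card_zpowers, hm] at h1; omega
  have hm3 : 3 ≤ m := by
    by_contra h
    have : 2 ^ m ≤ 2 ^ 2 := Nat.pow_le_pow_right two_pos (by omega)
    omega
  have hzero : ∀ c : ℤ, a ^ c = 1 ↔ (2 : ℤ) ^ m ∣ c := fun c => by
    rw [← orderOf_dvd_iff_zpow_eq_one, hm]; push_cast; rfl
  have hout : ∀ v : S, Nat.card (centralizer ({v} : Set S)) ≤ 4 → v ∉ zpowers a := fun v hv hmem => by
    have hle : zpowers a ≤ centralizer ({v} : Set S) := fun y hy => by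
      obtain ⟨p, rfl⟩ := mem_zpowers_iff.1 hy
      obtain ⟨q, rfl⟩ := mem_zpowers_iff.1 hmem
      exact mem_centralizer_singleton_iff.2 ((Commute.refl a).zpow_zpow p q)
    have := Nat.card_le_card_of_injective _ (inclusion_injective hle)
    rw [Nat.card_zpowers, hm] at this
    omega
  have hwA : w ∉ zpowers a := hout w (by rw [hC, Nat.card_zpowers, hw])
  set z := w * w with hz
  have hzA : z ∈ zpowers a := (mul_mem_iff_of_index_two ha).2 (iff_of_false hwA hwA)
  have hzo : orderOf z = 2 := by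
    rw [hz, ← pow_two, orderOf_pow' w two_ne_zero, hw]; rfl
  set h : ℤ := ((orderOf a / 2 : ℕ) : ℤ) with hh
  have hzh : z = a ^ h := invol_eq hzA hzo
  have hh2 : h = 2 ^ (m - 1) := by
    rw [hh, hm, show 2 ^ m = 2 ^ (m - 1) * 2 by rw [← pow_succ]; congr 1; omega,
      Nat.mul_div_cancel _ two_pos]
    push_cast; rfl
  have hheven : (2 : ℤ) ∣ h := hh2 ▸ dvd_pow_self 2 (by omega)
  have hmz : ((2 : ℤ) ^ m) = 2 * h := by rw [hh2, ← pow_succ']; congr 1; omega
  obtain ⟨i, hi⟩ := mem_zpowers_iff.1 (hAn.conj_mem a (mem_zpowers a) w)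
  have hwi : ∀ k : ℤ, w * a ^ k * w⁻¹ = a ^ (i * k) := fun k => by rw [← conj_zpow, ← hi, ← zpow_mul]
  have hzc : ∀ k : ℤ, z * a ^ k = a ^ k * z := fun k => by rw [hzh, ← zpow_add, ← zpow_add, add_comm]
  have hsq : (2 : ℤ) ^ m ∣ i * i - 1 := by
    rw [← hzero, zpow_sub, zpow_one, ← hwi, mul_inv_eq_one]
    have h1 : a ^ i = w * a * w⁻¹ := hi
    rw [h1]
    calc w * (w * a * w⁻¹) * w⁻¹ = z * a * z⁻¹ := by rw [hz]; group
      _ = a := by rw [show z * a = a * z by simpa using hzc 1, mul_inv_cancel_right]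
  rcases CentFour.modEq_of_sq_modEq_one (by omega) hsq with h' | h'
  · exfalso
    rw [← hh2] at h'
    obtain ⟨c, hc⟩ := h'
    have h2 : a ^ (2 : ℤ) ∈ centralizer ({w} : Set S) := by
      have : w * a ^ (2 : ℤ) * w⁻¹ = a ^ (2 : ℤ) := by
        rw [hwi, ← mul_inv_eq_one, ← zpow_neg, ← zpow_add, hzero]
        exact ⟨c, by rw [hmz]; linear_combination 2 * hc⟩
      exact mem_centralizer_singleton_iff.2 (mul_inv_eq_iff_eq_mul.1 this).symm
    rw [hC] at h2
    refine hwA ?_
    have ho : orderOf (a ^ (2 : ℤ)) = 2 ^ (m - 1) := by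
      rw [show a ^ (2 : ℤ) = a ^ 2 from zpow_natCast a 2, orderOf_pow' a two_ne_zero, hm,
        Nat.gcd_eq_right (dvd_pow_self 2 (by omega)),
        show 2 ^ m = 2 ^ (m - 1) * 2 by rw [← pow_succ]; congr 1; omega, Nat.mul_div_cancel _ two_pos]
    have h4 : zpowers (a ^ (2 : ℤ)) = zpowers w := eq_of_le_of_card_ge (zpowers_le.2 h2) (by
      rw [Nat.card_zpowers, Nat.card_zpowers, ho, hw]
      exact le_trans (by norm_num) (Nat.pow_le_pow_right two_pos (show 2 ≤ m - 1 by omega)))
    exact zpowers_le.2 (zpow_mem (mem_zpowers a) 2) (h4 ▸ mem_zpowers w)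
  rw [← hh2] at h'
  obtain ⟨c, hc⟩ := h'
  have hsquare : ∀ k : ℤ, w * a ^ k * (w * a ^ k) = a ^ (h * (1 + c * k)) := fun k => by
    calc w * a ^ k * (w * a ^ k) = (w * a ^ k * w⁻¹) * (z * a ^ k) := by rw [hz]; group
      _ = a ^ (h * (1 + c * k)) := by
        rw [hwi, hzh, ← zpow_add, ← zpow_add]; congr 1
        linear_combination k * hc
  have hcases : ∀ y : S, (∃ k : ℤ, y = a ^ k) ∨ ∃ k : ℤ, y = w * a ^ k := fun y => by
    by_cases hy : y ∈ zpowers a
    · obtain ⟨k, hk⟩ := mem_zpowers_iff.1 hy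
      exact Or.inl ⟨k, hk.symm⟩
    · have : w⁻¹ * y ∈ zpowers a := (mul_mem_iff_of_index_two ha).2
        (iff_of_false (fun h => hwA (by simpa using inv_mem h)) hy)
      obtain ⟨k, hk⟩ := mem_zpowers_iff.1 this
      exact Or.inr ⟨k, by rw [hk, mul_inv_cancel_left]⟩
  have hlow : ∀ y : S, orderOf y < 4 → y * y = 1 := fun y hy => by
    obtain ⟨j, hj⟩ := hS y
    obtain ⟨e, -, he⟩ := (Nat.dvd_prime_pow Nat.prime_two).1 (orderOf_dvd_of_pow_eq_one hj)
    have : e ≤ 1 := by
      by_contra hgt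
      have : 2 ^ 2 ≤ 2 ^ e := Nat.pow_le_pow_right two_pos (by omega)
      omega
    rw [← pow_two, ← orderOf_dvd_iff_pow_eq_one, he]
    exact Nat.pow_dvd_pow 2 this |>.trans (by norm_num)
  rcases Int.even_or_odd' c with ⟨d, hd | hd⟩
  · -- all elements outside the cyclic subgroup square to the involution
    refine ⟨zpowers a, ha, fun y hy => ?_, fun v _ hv => hout v hv⟩
    rcases hcases y with ⟨k, rfl⟩ | ⟨k, rfl⟩
    · exact zpow_mem (mem_zpowers a) k
    · exfalso
      have h1 := hlow _ hy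
      rw [hsquare, hzero, hmz, hd] at h1
      obtain ⟨e, he⟩ := h1
      have h0 : (1 + 2 * d * k) = 2 * e := by
        refine mul_left_cancel₀ (show h ≠ 0 by rw [hh2]; positivity) ?_
        linear_combination he
      have : (2 : ℤ) ∣ 1 := ⟨e - d * k, by linear_combination h0⟩
      omega
  have hiodd : ∃ r : ℤ, i = 2 * r + 1 := by
    obtain ⟨e, he⟩ := hheven
    exact ⟨e * c - 1, by rw [he] at hc; linear_combination hc⟩
  obtain ⟨r, hr⟩ := hiodd
  have hpar : ∀ k l : ℤ, a ^ k = a ^ l → ∃ e, k - l = 2 * e := fun k l hkl => by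
    have : a ^ (k - l) = 1 := by rw [zpow_sub, hkl, mul_inv_cancel]
    obtain ⟨e, he⟩ := (hzero _).1 this
    exact ⟨h * e, by rw [he, hmz]; ring⟩
  have hne : ∀ k l : ℤ, a ^ k ≠ w * a ^ l := fun k l hkl => hwA (by
    have : w = a ^ k * (a ^ l)⁻¹ := by rw [hkl, mul_inv_cancel_right]
    rw [this]; exact mul_mem (zpow_mem (mem_zpowers a) k) (inv_mem (zpow_mem (mem_zpowers a) l)))
  obtain ⟨h₂, hh₂⟩ := hheven
  have hleft : ∀ k : ℤ, a ^ k * w = w * a ^ (i * k) := fun k => by
    have h1 := hwi (i * k)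
    have h2 : a ^ (i * (i * k)) = a ^ k := by
      rw [← mul_inv_eq_one, ← zpow_neg, ← zpow_add, hzero]
      exact hsq.trans ⟨k, by ring⟩
    rw [← h2, ← h1]; group
  let M : Subgroup S :=
    { carrier := {y | ∃ k : ℤ, y = a ^ (2 * k) ∨ y = w * a ^ (2 * k + 1)}
      one_mem' := ⟨0, Or.inl (by simp)⟩
      mul_mem' := by
        rintro x y ⟨k, rfl | rfl⟩ ⟨l, rfl | rfl⟩
        · exact ⟨k + l, Or.inl (by rw [← zpow_add]; ring_nf)⟩
        · refine ⟨i * k + l, Or.inr ?_⟩
          rw [← mul_assoc, hleft, mul_assoc, ← zpow_add]; ring_nf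
        · refine ⟨k + l, Or.inr ?_⟩
          rw [mul_assoc, ← zpow_add]; ring_nf
        · refine ⟨h₂ + r * (2 * k + 1) + k + l + 1, Or.inl ?_⟩
          calc w * a ^ (2 * k + 1) * (w * a ^ (2 * l + 1))
              = (w * a ^ (2 * k + 1) * w⁻¹) * (z * a ^ (2 * l + 1)) := by rw [hz]; group
            _ = _ := by
              rw [hwi, hzh, ← zpow_add, ← zpow_add]; congr 1
              linear_combination (2 * k + 1) * hr + hh₂
      inv_mem' := by
        rintro x ⟨k, rfl | rfl⟩
        · exact ⟨-k, Or.inl (by rw [← zpow_neg]; ring_nf)⟩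
        · refine ⟨-(r * (2 * k + 1)) - k - 1 - h₂, Or.inr ?_⟩
          have hwinv : w⁻¹ = w * z := by
            rw [inv_eq_iff_mul_eq_one, ← mul_assoc, ← hz, ← pow_two, ← hzo, pow_orderOf_eq_one]
          rw [mul_inv_rev, hwinv, ← zpow_neg, ← mul_assoc, hleft, mul_assoc, hzh, ← zpow_add]
          congr 1
          have hs : a ^ (i * -(2 * k + 1) + h) = a ^ (2 * (-(r * (2 * k + 1)) - k - 1 - h₂) + 1 + 2 * h) := by
            congr 1; linear_combination -(2 * k + 1) * hr - hh₂
          have h2h : a ^ (2 * h) = 1 := (hzero _).2 ⟨1, by rw [hmz]; ring⟩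
          rw [hs, zpow_add, h2h, mul_one] }
  have hmemA : ∀ k : ℤ, a ^ k ∈ M ↔ ∃ e, k = 2 * e := fun k => by
    refine ⟨?_, fun ⟨e, he⟩ => ⟨e, Or.inl (by rw [he])⟩⟩
    rintro ⟨l, h1 | h1⟩
    · obtain ⟨e, he⟩ := hpar _ _ h1
      exact ⟨l + e, by linarith⟩
    · exact absurd h1 (hne _ _)
  have hmemW : ∀ k : ℤ, w * a ^ k ∈ M ↔ ∃ e, k = 2 * e + 1 := fun k => by
    refine ⟨?_, fun ⟨e, he⟩ => ⟨e, Or.inr (by rw [he])⟩⟩
    rintro ⟨l, h1 | h1⟩
    · exact absurd h1.symm (hne _ _)
    · obtain ⟨e, he⟩ := hpar _ _ (mul_left_cancel h1)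
      exact ⟨l + e, by linarith⟩
  refine ⟨M, index_eq_two_iff'.2 ⟨a, fun y => ?_⟩, fun y hy => ?_, fun v hv hvC hvM => ?_⟩
  · rcases hcases y with ⟨k, rfl⟩ | ⟨k, rfl⟩
    · rw [show a * a ^ k = a ^ (k + 1) by rw [add_comm, zpow_add, zpow_one], hmemA, hmemA]
      rcases Int.even_or_odd' k with ⟨e, he | he⟩
      · exact Or.inr ⟨⟨e, he⟩, fun ⟨g, hg⟩ => by omega⟩
      · exact Or.inl ⟨⟨e + 1, by omega⟩, fun ⟨g, hg⟩ => by omega⟩
    · rw [show a * (w * a ^ k) = w * a ^ (i + k) by
        have h1 := hleft 1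
        rw [zpow_one, mul_one] at h1
        rw [← mul_assoc, h1, mul_assoc, ← zpow_add], hmemW, hmemW]
      rcases Int.even_or_odd' k with ⟨e, he | he⟩
      · exact Or.inl ⟨⟨r + e, by omega⟩, fun ⟨g, hg⟩ => by omega⟩
      · exact Or.inr ⟨⟨e, he⟩, fun ⟨g, hg⟩ => by omega⟩
  · have h1 := hlow y hy
    rcases hcases y with ⟨k, rfl⟩ | ⟨k, rfl⟩
    · rw [← zpow_add, hzero, hmz] at h1
      obtain ⟨e, he⟩ := h1
      exact (hmemA k).2 ⟨h₂ * e, by rw [hh₂] at he; linarith⟩
    · rw [hsquare, hzero, hmz, hd] at h1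
      obtain ⟨e, he⟩ := h1
      have h0 : (1 + (2 * d + 1) * k) = 2 * e := by
        refine mul_left_cancel₀ (show h ≠ 0 by rw [hh2]; positivity) ?_
        linear_combination he
      exact (hmemW k).2 ⟨e - 1 - d * k, by linear_combination h0⟩
  · rcases hcases v with ⟨k, rfl⟩ | ⟨k, rfl⟩
    · exact hout _ hvC (zpow_mem (mem_zpowers a) k)
    · obtain ⟨e, he⟩ := (hmemW k).1 hvM
      have h1 : (w * a ^ k) ^ 2 = 1 := by
        rw [pow_two, hsquare, hzero, hmz]
        exact ⟨d * k + e + 1, by rw [hd, he]; ring⟩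
      have := Nat.le_of_dvd two_pos (orderOf_dvd_of_pow_eq_one h1)
      omega

end local_two

section simple

variable {G : Type u} [Group G] [Finite G] [IsSimpleGroup G] {w : G}

/-- The Sylow 2-subgroup is dihedral of order eight. -/
theorem four_case (hG : ¬ IsCyclic G) (hw : orderOf w = 4)
    (hC : Nat.card (centralizer ({w} : Set G)) = 4) :
    ∃ P : Sylow 2 G, Nonempty ((P : Subgroup G) ≃* DihedralGroup 4) := by
  haveI : Fact (Nat.Prime 2) := ⟨Nat.prime_two⟩
  obtain ⟨P, hP⟩ := (two_group (n := 2) (by rw [hC]; norm_num) :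
    IsPGroup 2 (centralizer ({w} : Set G))).exists_le_sylow
  set x : (P : Subgroup G) := ⟨w, hP (mem_centralizer_singleton_iff.2 rfl)⟩ with hx
  have hxC : Nat.card (centralizer ({x} : Set (P : Subgroup G))) = 4 := (card_cent_eq x hP).trans hC
  have hxo : orderOf x = 4 := by rw [hx, orderOf_mk, hw]
  have hxz : centralizer ({x} : Set (P : Subgroup G)) = zpowers x :=
    (eq_of_le_of_card_ge (zpowers_le.2 (mem_centralizer_singleton_iff.2 rfl))
      (by rw [hxC, Nat.card_zpowers, hxo])).symm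
  obtain ⟨k, hk⟩ := IsPGroup.iff_card.1 P.isPGroup'
  have hconj : ∀ g : G, ∀ h : g⁻¹ * w * g ∈ (P : Subgroup G),
      orderOf (⟨_, h⟩ : (P : Subgroup G)) = 4 ∧
        Nat.card (centralizer ({⟨_, h⟩} : Set (P : Subgroup G))) ≤ 4 := fun g h =>
    ⟨by rw [orderOf_mk, show g⁻¹ * w * g = MulAut.conj g⁻¹ w by simp, MulEquiv.orderOf_eq, hw],
      (card_cent_le _).trans (le_of_eq (by rw [← hC, ← card_cent_conj w g]))⟩
  have h4 : 4 ≤ Nat.card (P : Subgroup G) := hxC ▸ card_le_card_group _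
  by_cases h16 : 16 ≤ Nat.card (P : Subgroup G)
  · exfalso
    obtain ⟨M, hM, hlow, hout⟩ := exists_transfer_subgroup P.isPGroup' hxo hxz h16
    exact false_of_transfer hG P M hM (m := 2) (by rw [hw]; norm_num)
      (fun a ha => hlow a (by rwa [hw] at ha)) fun g h => hout _ (hconj g h).1 (hconj g h).2
  have hk4 : k < 4 := by
    by_contra h
    exact h16 (hk ▸ le_trans (by norm_num) (Nat.pow_le_pow_right two_pos (not_lt.1 h)))
  have hk' : k = 2 ∨ k = 3 := by
    rw [hk] at h4
    interval_cases k <;> omega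
  rcases hk' with rfl | rfl
  · exfalso
    have htop : zpowers x = ⊤ := eq_top_of_card_eq _ (by rw [Nat.card_zpowers, hxo, hk]; norm_num)
    have hsub : (zpowers (x * x)).index = 2 := by
      have h1 := (zpowers (x * x)).card_mul_index
      have h2 : orderOf (x * x) = 2 := by rw [← pow_two, orderOf_pow' x two_ne_zero, hxo]; rfl
      rw [Nat.card_zpowers, h2, hk] at h1
      omega
    refine false_of_transfer hG P _ hsub (m := 2) (by rw [hw]; norm_num) (fun a ha => ?_) fun g h hmem => ?_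
    · rw [hw] at ha
      have h1 : orderOf a ∣ 4 := by
        rw [show 4 = Nat.card (P : Subgroup G) by rw [hk]; norm_num]; exact orderOf_dvd_natCard a
      have h2 : orderOf a = 1 ∨ orderOf a = 2 := by
        have := orderOf_pos a
        interval_cases horder : orderOf a <;> omega
      rcases h2 with h2 | h2
      · rw [orderOf_eq_one_iff.1 h2]; exact one_mem _
      · rw [eq_sq hxo (htop ▸ mem_top a) h2]; exact mem_zpowers _
    · have h1 := (hconj g h).1
      have h2 := orderOf_dvd_of_mem_zpowers hmem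
      rw [h1, ← pow_two, orderOf_pow' x two_ne_zero, hxo] at h2
      norm_num at h2
  · refine ⟨P, ?_⟩
    have hcard : Nat.card (P : Subgroup G) = 8 := by rw [hk]; norm_num
    haveI : Nontrivial (P : Subgroup G) := Finite.one_lt_card_iff_nontrivial.1 (by omega)
    obtain ⟨z, hz, hzo⟩ := CentFour.exists_central_involution P.isPGroup'
    have hzx : z = x * x := eq_sq hxo (hxz ▸ mem_centralizer_singleton_iff.2 (mem_center_iff.1 hz x).symm) hzo
    by_cases hone : ∀ y : (P : Subgroup G), orderOf y = 2 → y = z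
    · exfalso
      refine not_rankOne hG ((dvd_pow_self 2 (by norm_num : (3 : ℕ) ≠ 0)).trans (hk ▸ card_subgroup_dvd_card _))
        fun a b ha hb hab => ?_
      have h2 : IsPGroup 2 (zpowers a ⊔ zpowers b : Subgroup G) := by
        have ha' : IsPGroup 2 (zpowers a) := two_group (n := 1) (by rw [Nat.card_zpowers, ha, pow_one])
        have hb' : IsPGroup 2 (zpowers b) := two_group (n := 1) (by rw [Nat.card_zpowers, hb, pow_one])
        refine ha'.to_sup_of_normal_right' hb' (zpowers_le.2 ?_)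
        refine mem_normalizer_fintype fun y hy => ?_
        obtain ⟨j, rfl⟩ := mem_zpowers_iff.1 hy
        rw [← conj_zpow, hab.eq, mul_inv_cancel_right]
        exact zpow_mem (mem_zpowers b) j
      obtain ⟨T, hT⟩ := h2.exists_le_sylow
      obtain ⟨g, hg⟩ := MulAction.exists_smul_eq G T P
      have hin : ∀ c ∈ (zpowers a ⊔ zpowers b : Subgroup G), orderOf c = 2 → g * c * g⁻¹ = (z : G) := by
        intro c hc hco
        have hmem : g * c * g⁻¹ ∈ (P : Subgroup G) := by
          rw [← hg, Sylow.coe_subgroup_smul]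
          exact ⟨c, hT hc, rfl⟩
        exact congrArg Subtype.val (hone ⟨_, hmem⟩ (by rw [orderOf_mk, ← MulAut.conj_apply,
          MulEquiv.orderOf_eq, hco]))
      exact mul_left_cancel (mul_right_cancel ((hin a (mem_sup_left (mem_zpowers a)) ha).trans
        (hin b (mem_sup_right (mem_zpowers b)) hb).symm))
    push Not at hone
    obtain ⟨y, hy, hyz⟩ := hone
    have hync : y ∉ center (P : Subgroup G) := fun h =>
      hyz ((eq_sq hxo (hxz ▸ mem_centralizer_singleton_iff.2 (mem_center_iff.1 h x).symm) hy).trans hzx.symm)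
    have hyC : Nat.card (centralizer ({y} : Set (P : Subgroup G))) = 4 := by
      obtain ⟨j, hj⟩ := IsPGroup.iff_card.1 (P.isPGroup'.to_subgroup (centralizer ({y} : Set (P : Subgroup G))))
      have hlt : Nat.card (centralizer ({y} : Set (P : Subgroup G))) < 8 := by
        rw [← hcard]
        refine lt_of_le_of_ne (card_le_card_group _) fun h => hync (mem_center_iff.2 fun g => ?_)
        have hg : g ∈ centralizer ({y} : Set (P : Subgroup G)) := eq_top_of_card_eq _ h ▸ mem_top g
        exact mem_centralizer_singleton_iff.1 hg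
      have hlt2 : 2 < Nat.card (centralizer ({y} : Set (P : Subgroup G))) := by
        refine lt_of_lt_of_le ?_ (Nat.card_le_card_of_injective
          (fun i : Fin 3 => (⟨![1, y, z] i, ?_⟩ : centralizer ({y} : Set (P : Subgroup G)))) ?_)
        · rw [Nat.card_eq_fintype_card, Fintype.card_fin]; norm_num
        · fin_cases i
          · exact one_mem _
          · exact mem_centralizer_singleton_iff.2 rfl
          · exact mem_centralizer_singleton_iff.2 (mem_center_iff.1 hz y).symm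
        · have h1 : y ≠ 1 := fun e => by rw [e, orderOf_one] at hy; omega
          have h2 : z ≠ 1 := fun e => by rw [e, orderOf_one] at hzo; omega
          intro i j hij
          have hij' := congrArg Subtype.val hij
          fin_cases i <;> fin_cases j <;> simp [h1, h2, hyz, h1.symm, h2.symm, Ne.symm hyz] at hij' ⊢
      rw [hj] at hlt hlt2 ⊢
      have : j < 3 := (Nat.pow_lt_pow_iff_right (by norm_num : 1 < 2)).1 (by simpa using hlt)
      interval_cases j <;> simp_all
    rcases CentFour.dihedral_or_quasiDihedral P.isPGroup' hy hyC with ⟨n, ⟨e⟩⟩ | h | h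
    · have h1 := Nat.card_congr e.toEquiv
      rw [DihedralGroup.nat_card, hcard] at h1
      obtain rfl : n = 4 := by omega
      exact ⟨e⟩
    · obtain ⟨n, hn, hc, -⟩ := h
      rw [hcard] at hc
      have : 2 ^ 4 ≤ 2 ^ (n + 1) := Nat.pow_le_pow_right two_pos (by omega)
      omega
    · omega

end simple

end Cfsg.Agent.SmallCent
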